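import Groth.Agent.TwConst.UnramifiedNbhd
import Groth.Agent.Weighting.Chart
import Mathlib

/-!
Étale-local splitting of finitely many unramified primes, in algebraic form.
-/

set_option autoImplicit false
set_option linter.style.haveILetI false

universe u

open CategoryTheory AlgebraicGeometry Limits TensorProduct TopologicalSpace

namespace Groth.Agent.UnramSplitAlg

theorem surjective_of_isClosedImmersion {A B : CommRingCat.{u}} (φ : A ⟶ B) [IsClosedImmersion (Spec.map φ)] :
    Function.Surjective φ.hom := by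
  have h := (IsClosedImmersion.isAffine_surjective_of_isAffine (Spec.map φ)).2
  intro b
  obtain ⟨a, ha⟩ := h ((Scheme.ΓSpecIso B).inv.hom b)
  refine ⟨(Scheme.ΓSpecIso A).hom.hom a, ?_⟩
  have := congr($(Scheme.ΓSpecIso_naturality φ).hom a)
  rw [CommRingCat.comp_apply, CommRingCat.comp_apply, ha] at this
  rw [← this, ← CommRingCat.comp_apply, Iso.inv_hom_id]
  rfl

theorem exists_formallyUnramified_nhd {R S : Type u} [CommRing R] [CommRing S] [Algebra R S]
    [Algebra.FiniteType R S] (x : PrimeSpectrum S) [Algebra.IsUnramifiedAt R x.asIdeal] :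
    ∃ W : (Spec (CommRingCat.of S)).Opens, x ∈ W ∧
      LocallyOfFiniteType (W.ι ≫ Spec.map (CommRingCat.ofHom (algebraMap R S))) ∧
      FormallyUnramified (W.ι ≫ Spec.map (CommRingCat.ofHom (algebraMap R S))) := by
  obtain ⟨a, ha, hfu⟩ := Algebra.exists_formallyUnramified_of_isUnramifiedAt (R := R) x.asIdeal
  haveI : LocallyOfFiniteType (Spec.map (CommRingCat.ofHom (algebraMap R S))) :=
    HasRingHomProperty.Spec_iff.2 (RingHom.finiteType_algebraMap.2 inferInstance)
  let W : (Spec (CommRingCat.of S)).Opens := PrimeSpectrum.basicOpen a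
  refine ⟨W, ha, inferInstance, ?_⟩
  let j : Spec (CommRingCat.of (Localization.Away a)) ⟶ Spec (CommRingCat.of S) :=
    Spec.map (CommRingCat.ofHom (algebraMap S (Localization.Away a)))
  haveI : IsOpenImmersion j := IsOpenImmersion.of_isLocalization a
  have hj : Set.range j = Set.range W.ι := by
    rw [Scheme.Opens.range_ι]
    exact PrimeSpectrum.localization_away_comap_range (Localization.Away a) a
  rw [← IsOpenImmersion.isoOfRangeEq_inv_fac j W.ι hj, Category.assoc]
  haveI : FormallyUnramified (j ≫ Spec.map (CommRingCat.ofHom (algebraMap R S))) := by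
    rw [← Spec.map_comp]
    refine HasRingHomProperty.Spec_iff.2 ?_
    rw [CommRingCat.hom_comp, CommRingCat.hom_ofHom, CommRingCat.hom_ofHom,
      ← IsScalarTower.algebraMap_eq, RingHom.formallyUnramified_algebraMap]
    exact hfu
  exact MorphismProperty.comp_mem @FormallyUnramified _ _ inferInstance ‹_›

theorem exists_split (R S : Type u) [CommRing R] [CommRing S] [Algebra R S] [Algebra.FiniteType R S]
    {ι : Type} [Finite ι] (p : PrimeSpectrum R) (x : ι → PrimeSpectrum S)
    (hx : ∀ i, PrimeSpectrum.comap (algebraMap R S) (x i) = p)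
    (hu : ∀ i, Algebra.IsUnramifiedAt R (x i).asIdeal) :
    ∃ (R' : Type u) (_ : CommRing R') (_ : Algebra R R') (_ : Algebra.Etale R R') (p' : PrimeSpectrum R'),
      PrimeSpectrum.comap (algebraMap R R') p' = p ∧
      ∃ (n : ℕ) (lab : Fin n → ι) (e : Fin n → R' ⊗[R] S) (v : Fin n → PrimeSpectrum (R' ⊗[R] S)),
        OrthogonalIdempotents e ∧
        (∀ k, e k ∉ (v k).asIdeal ∧ PrimeSpectrum.comap (algebraMap R' (R' ⊗[R] S)) (v k) = p' ∧
          PrimeSpectrum.comap (Algebra.TensorProduct.includeRight : S →ₐ[R] R' ⊗[R] S).toRingHom (v k) = x (lab k) ∧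
          Function.Surjective (algebraMap R' ((R' ⊗[R] S) ⧸ Ideal.span {1 - e k}))) ∧
        (∀ w : PrimeSpectrum (R' ⊗[R] S), PrimeSpectrum.comap (algebraMap R' (R' ⊗[R] S)) w = p' →
          (∃ i, PrimeSpectrum.comap (Algebra.TensorProduct.includeRight : S →ₐ[R] R' ⊗[R] S).toRingHom w = x i) →
          ∃ k, w = v k) ∧
        ∀ i, ∃ k, PrimeSpectrum.comap (Algebra.TensorProduct.includeRight : S →ₐ[R] R' ⊗[R] S).toRingHom (v k) = x i := by
  let f : Spec (CommRingCat.of S) ⟶ Spec (CommRingCat.of R) := Spec.map (CommRingCat.ofHom (algebraMap R S))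
  obtain ⟨U, g, u, hg, hgu, K, hK, lab, V, v, hV, hinj, hall, hsep⟩ :=
    TwConst.exists_unramified_split f p (ι := ι) x hx (fun i => by
      haveI := hu i
      exact exists_formallyUnramified_nhd (R := R) (x i))
  haveI := hg
  haveI := hK
  obtain ⟨hclosed, hdisj⟩ := hsep inferInstance
  obtain ⟨N, hN, huN, -⟩ := exists_isAffineOpen_mem_and_subset (X := U) (x := u) (U := ⊤) trivial
  obtain ⟨φ, hφ⟩ := Spec.map_surjective (hN.fromSpec ≫ g)
  letI : Algebra R Γ(U, N) := φ.hom.toAlgebra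
  have hφ' : Spec.map (CommRingCat.ofHom (algebraMap R Γ(U, N))) = hN.fromSpec ≫ g := hφ
  haveI : Algebra.Etale R Γ(U, N) := by
    have h1 : Etale (Spec.map (CommRingCat.ofHom (algebraMap R Γ(U, N)))) := by rw [hφ']; infer_instance
    exact RingHom.etale_algebraMap.1 (HasRingHomProperty.Spec_iff.1 h1)
  let p' : PrimeSpectrum Γ(U, N) := hN.primeIdealOf ⟨u, huN⟩
  have hp'u : hN.fromSpec p' = u := hN.fromSpec_primeIdealOf ⟨u, huN⟩
  let T := Γ(U, N) ⊗[R] S
  let a : Spec (CommRingCat.of T) ⟶ Spec (CommRingCat.of S) :=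
    Spec.map (CommRingCat.ofHom (Algebra.TensorProduct.includeRight : S →ₐ[R] T).toRingHom)
  let b : Spec (CommRingCat.of T) ⟶ Spec Γ(U, N) := Spec.map (CommRingCat.ofHom (algebraMap Γ(U, N) T))
  have hT : IsPullback a b f (hN.fromSpec ≫ g) := by
    rw [← hφ']
    exact (isPullback_SpecMap_of_isPushout _ _ _ _ (CommRingCat.isPushout_tensorProduct R Γ(U, N) S)).flip
  let m : Spec (CommRingCat.of T) ⟶ pullback f g :=
    pullback.lift a (b ≫ hN.fromSpec) (by rw [Category.assoc]; exact hT.w)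
  have hm₁ : m ≫ pullback.fst f g = a := pullback.lift_fst _ _ _
  have hm₂ : m ≫ pullback.snd f g = b ≫ hN.fromSpec := pullback.lift_snd _ _ _
  have hmp : IsPullback m b (pullback.snd f g) hN.fromSpec :=
    IsPullback.of_right (by rw [hm₁]; exact hT) hm₂ (IsPullback.of_hasPullback f g)
  haveI : IsOpenImmersion m := MorphismProperty.of_isPullback (P := @IsOpenImmersion) hmp.flip inferInstance
  choose z hz₁ hz₂ using fun k => Scheme.exists_preimage_of_isPullback hmp (v k) p'
    ((hV k).2.2.1.trans hp'u.symm)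
  have hclopen : ∀ k, IsClopen {w : PrimeSpectrum T | m w ∈ V k} :=
    fun k => ⟨(hclosed k).preimage m.continuous, (m ⁻¹ᵁ V k).2⟩
  choose e hei he using fun k => PrimeSpectrum.exists_idempotent_basicOpen_eq_of_isClopen (hclopen k)
  have hmem : ∀ k (w : PrimeSpectrum T), e k ∉ w.asIdeal ↔ m w ∈ V k := fun k w =>
    (Set.ext_iff.1 (he k) w).symm
  obtain ⟨n, ⟨σ⟩⟩ := Finite.exists_equiv_fin K
  refine ⟨Γ(U, N), inferInstance, inferInstance, inferInstance, p', ?_, n, lab ∘ σ.symm, e ∘ σ.symm,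
    z ∘ σ.symm, ?_, fun k => ⟨?_, hz₂ _, ?_, ?_⟩, ?_, fun i => ?_⟩
  · show Spec.map (CommRingCat.ofHom (algebraMap R Γ(U, N))) p' = p
    rw [hφ', Scheme.Hom.comp_apply, hp'u, hgu]
  · refine (OrthogonalIdempotents.equiv σ.symm).2 ⟨hei, fun k l hkl => ?_⟩
    refine IsIdempotentElem.eq_zero_of_isNilpotent ((hei k).mul (hei l)) ?_
    rw [← mem_nilradical, nilradical_eq_sInf, Ideal.mem_sInf]
    intro P hP
    by_contra hkP
    have h1 := (hmem k ⟨P, hP⟩).1 fun h => hkP (P.mul_mem_right _ h)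
    have h2 := (hmem l ⟨P, hP⟩).1 fun h => hkP (P.mul_mem_left _ h)
    exact (disjoint_iff_inf_le.1 (hdisj k l hkl)) ⟨h1, h2⟩
  · exact (hmem _ _).2 (show m (z (σ.symm k)) ∈ V (σ.symm k) by rw [hz₁]; exact (hV _).1)
  · show a (z (σ.symm k)) = x (lab (σ.symm k))
    rw [← hm₁, Scheme.Hom.comp_apply, hz₁]
    exact (hV _).2.2.2.2
  · let A := T ⧸ Ideal.span {1 - e (σ.symm k)}
    let π : Spec (CommRingCat.of A) ⟶ Spec (CommRingCat.of T) := Spec.map (CommRingCat.ofHom (Ideal.Quotient.mk _))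
    haveI : IsLocalization.Away (e (σ.symm k)) A := IsLocalization.Away.quotient_of_isIdempotentElem (hei _)
    haveI : IsOpenImmersion π := IsOpenImmersion.of_isLocalization (S := A) (e (σ.symm k))
    have hrange : Set.range π = Set.range (m ⁻¹ᵁ V (σ.symm k)).ι := by
      rw [Scheme.Opens.range_ι]
      exact (PrimeSpectrum.localization_away_comap_range A (e (σ.symm k))).trans (he (σ.symm k)).symm
    have hb : IsClosedImmersion ((m ⁻¹ᵁ V (σ.symm k)).ι ≫ b) :=
      MorphismProperty.of_isPullback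
        ((isPullback_morphismRestrict m (V (σ.symm k))).paste_vert hmp) (hV _).2.1
    have hπb : IsClosedImmersion (π ≫ b) := by
      rw [← IsOpenImmersion.isoOfRangeEq_hom_fac π (m ⁻¹ᵁ V (σ.symm k)).ι hrange, Category.assoc]
      haveI := hb
      infer_instance
    rw [← Spec.map_comp] at hπb
    haveI := hπb
    exact surjective_of_isClosedImmersion
      (CommRingCat.ofHom (algebraMap Γ(U, N) T) ≫ CommRingCat.ofHom (Ideal.Quotient.mk (Ideal.span {1 - e (σ.symm k)})))
  · rintro w hw ⟨i, hi⟩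
    obtain ⟨k, hk⟩ := hall (m w) i
      (by rw [← Scheme.Hom.comp_apply, hm₂, Scheme.Hom.comp_apply]; exact (congrArg hN.fromSpec hw).trans hp'u)
      (by rw [← Scheme.Hom.comp_apply, hm₁]; exact hi)
    refine ⟨σ k, m.isOpenEmbedding.injective ?_⟩
    show m w = m (z (σ.symm (σ k)))
    rw [hk, Equiv.symm_apply_apply, hz₁]
  · obtain ⟨w, hw₁, hw₂⟩ := Scheme.Pullback.exists_preimage_pullback (f := f) (g := g) (x i) u ((hx i).trans hgu.symm)
    obtain ⟨k, rfl⟩ := hall w i hw₂ hw₁
    refine ⟨σ k, ?_⟩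
    show a (z (σ.symm (σ k))) = x i
    rw [Equiv.symm_apply_apply, ← hm₁, Scheme.Hom.comp_apply, hz₁, hw₁]

theorem piece_prime {R' T : Type u} [CommRing R'] [CommRing T] [Algebra R' T] (e : T) (he : IsIdempotentElem e)
    (v : PrimeSpectrum T) (hv : e ∉ v.asIdeal) (p' : PrimeSpectrum R')
    (hp : PrimeSpectrum.comap (algebraMap R' T) v = p')
    (hs : Function.Surjective (algebraMap R' (T ⧸ Ideal.span {1 - e}))) :
    (p'.asIdeal.map (algebraMap R' (T ⧸ Ideal.span {1 - e}))).IsPrime ∧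
    (p'.asIdeal.map (algebraMap R' (T ⧸ Ideal.span {1 - e}))).comap (algebraMap R' (T ⧸ Ideal.span {1 - e})) = p'.asIdeal ∧
    (p'.asIdeal.map (algebraMap R' (T ⧸ Ideal.span {1 - e}))).comap (Ideal.Quotient.mk (Ideal.span {1 - e})) = v.asIdeal := by
  have hle : Ideal.span {1 - e} ≤ v.asIdeal := by
    rw [Ideal.span_singleton_le_iff_mem]
    have h : e * (1 - e) ∈ v.asIdeal := by
      rw [mul_sub, mul_one, he.eq, sub_self]; exact zero_mem _
    exact (v.isPrime.mem_or_mem h).resolve_left hv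
  let P := v.asIdeal.map (Ideal.Quotient.mk (Ideal.span {1 - e}))
  have hP : P.comap (Ideal.Quotient.mk (Ideal.span {1 - e})) = v.asIdeal := by
    rw [Ideal.comap_map_of_surjective _ Ideal.Quotient.mk_surjective, ← RingHom.ker_eq_comap_bot, Ideal.mk_ker,
      sup_eq_left.2 hle]
  haveI hPp : P.IsPrime := Ideal.map_isPrime_of_surjective Ideal.Quotient.mk_surjective (by rwa [Ideal.mk_ker])
  have hPc : P.comap (algebraMap R' (T ⧸ Ideal.span {1 - e})) = p'.asIdeal := by
    rw [← hp, PrimeSpectrum.comap_asIdeal, ← hP, Ideal.comap_comap]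
    rfl
  have hmap : p'.asIdeal.map (algebraMap R' (T ⧸ Ideal.span {1 - e})) = P := by
    rw [← hPc, Ideal.map_comap_of_surjective _ hs]
  rw [hmap]
  exact ⟨hPp, hPc, hP⟩

theorem bijective_prod {T : Type u} [CommRing T] {n : ℕ} (e : Fin n → T) (he : OrthogonalIdempotents e) :
    Function.Bijective ((RingHom.pi fun k => Ideal.Quotient.mk (Ideal.span {1 - e k})).prod
      (Ideal.Quotient.mk (Ideal.span {∑ k, e k}))) := by
  constructor
  · rw [injective_iff_map_eq_zero]
    intro x hx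
    have h1 : ∀ k, x * e k = 0 := fun k => by
      obtain ⟨a, rfl⟩ := Ideal.mem_span_singleton.1 (Ideal.Quotient.eq_zero_iff_mem.1 (congrFun (congrArg Prod.fst hx) k))
      rw [mul_right_comm, sub_mul, one_mul, (he.idem k).eq, sub_self, zero_mul]
    obtain ⟨b, hb⟩ := Ideal.mem_span_singleton.1 (Ideal.Quotient.eq_zero_iff_mem.1 (congrArg Prod.snd hx))
    have h2 : x * (∑ k, e k) = 0 := by rw [Finset.mul_sum]; exact Finset.sum_eq_zero fun k _ => h1 k
    calc x = (∑ k, e k) * b := hb
      _ = x * ∑ k, e k := by rw [hb, mul_right_comm, (he.isIdempotentElem_sum).eq]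
      _ = 0 := h2
  · rintro ⟨a, b⟩
    choose a' ha using fun k => Ideal.Quotient.mk_surjective (a k)
    obtain ⟨b', rfl⟩ := Ideal.Quotient.mk_surjective b
    refine ⟨(∑ k, a' k * e k) + b' * (1 - ∑ k, e k), Prod.ext (funext fun k => ?_) ?_⟩
    · show Ideal.Quotient.mk (Ideal.span {1 - e k}) _ = a k
      rw [← ha k, Ideal.Quotient.eq, Ideal.mem_span_singleton]
      refine ⟨(∑ l, a' l * e l) + b' * (1 - ∑ l, e l) - a' k, ?_⟩
      have hk : e k * ∑ l, e l = e k := he.mul_sum_of_mem (Finset.mem_univ k)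
      have hk' : e k * ∑ l, a' l * e l = a' k * e k := by
        rw [Finset.mul_sum, Finset.sum_eq_single k]
        · rw [mul_left_comm, (he.idem k).eq]
        · intro l _ hl
          rw [mul_left_comm, he.ortho (Ne.symm hl), mul_zero]
        · simp
      linear_combination hk' - b' * hk
    · show Ideal.Quotient.mk _ _ = Ideal.Quotient.mk _ b'
      rw [Ideal.Quotient.eq, Ideal.mem_span_singleton]
      have hsum : (∑ l, a' l * e l) * (∑ k, e k) = ∑ l, a' l * e l := by
        rw [Finset.sum_mul]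
        exact Finset.sum_congr rfl fun l _ => by rw [mul_assoc, he.mul_sum_of_mem (Finset.mem_univ l)]
      exact ⟨(∑ l, a' l * e l) - b', by linear_combination -hsum⟩

end Groth.Agent.UnramSplitAlg
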